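import Groth.Agent.Lib.DerivedOX.OpenSupport
import Groth.Agent.Lib.DerivedOX.RestrictKInj
import Groth.Agent.Lib.DerivedOX.PullTensor
import Groth.Agent.Lib.DerivedOX.TensorSheaf
import Groth.Agent.Lib.Modules.Support
import Groth.Agent.Lib.Modules.Local

/-!
# Projection formula `j_!(a ⊗ b|_U) ≅ j_! a ⊗ b`, natural in both variables
-/

set_option autoImplicit false

universe u

open CategoryTheory Limits AlgebraicGeometry Opposite

namespace Groth.Agent.Lib.H15.RHomRes.Proj

open Groth.Agent.Lib Groth.Agent.Lib.DerivedOX TensorMod.Basic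

variable {X : Scheme.{u}} (U : X.Opens)

/-- Extension by zero has no stalks outside `U`. -/
theorem not_mem_support_extZero (a : (U : Scheme.{u}).Modules) {x : X} (hx : x ∉ U) :
    x ∉ CohB1.support ((CxOX.extZero U.ι).obj a) := by
  let e := ((CxOX.extZeroAdj U.ι).leftAdjointUniq (RestrictKInj.extZeroAdj U)).app a
  rw [Modules.Support.support_congr e, Modules.Support.not_mem_support_iff]
  let M : X.Modules := (RestrictKInj.extZero U).obj a
  refine subsingleton_of_forall_eq (α := M.presheaf.stalk x) 0 fun z => ?_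
  obtain ⟨W, hxW, s, rfl⟩ := TopCat.Presheaf.germ_exist M.presheaf z
  let P := (ExtZero.Sheaf.GU X.ringCatSheaf U).obj ((Scheme.Modules.overEquiv U).inverse.obj a)
  obtain ⟨W', i, ⟨t, ht⟩, hxW'⟩ := Presheaf.imageSieve_mem (Opens.grothendieckTopology X)
    (CategoryTheory.toSheafify (Opens.grothendieckTopology X) (ExtZero.Presheaf.absheaf P))
    (U := op W) s x hxW
  haveI : IsEmpty ((op W').unop ⟶ U) := ⟨fun φ => hx (leOfHom φ hxW')⟩
  haveI : Subsingleton ((ExtZero.Presheaf.absheaf P).obj (op W')) :=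
    inferInstanceAs (Subsingleton (ExtZero.Presheaf.Sec P (op W')))
  have h0 : t = 0 := Subsingleton.elim _ _
  have h1 : M.presheaf.map i.op s = 0 := by
    refine ht.symm.trans ?_
    rw [h0]
    exact map_zero _
  rw [← TopCat.Presheaf.germ_res_apply M.presheaf i x hxW' s, h1, map_zero]

/-- Restriction commutes with tensor products, naturally. -/
theorem restrictTensorIso_natural {X Y : Scheme.{u}} (f : X ⟶ Y) [IsOpenImmersion f]
    {M M' N N' : Y.Modules} (a : M ⟶ M') (b : N ⟶ N') :
    (Scheme.Modules.restrictFunctor f).map (tmap a b) ≫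
        (TensorMod.Pullback.restrictTensorIso f M' N').hom =
      (TensorMod.Pullback.restrictTensorIso f M N).hom ≫
        tmap ((Scheme.Modules.restrictFunctor f).map a) ((Scheme.Modules.restrictFunctor f).map b) := by
  let ρ := Scheme.Modules.restrictFunctorIsoPullback f
  simp only [TensorMod.Pullback.restrictTensorIso, Iso.trans_hom, Category.assoc]
  erw [ρ.hom.naturality_assoc (tmap a b)]
  congr 1
  refine (reassoc_of% TensorMod.Pullback.delta_natural f a b) _ |>.trans ?_
  congr 1
  change tmap _ _ ≫ tmap _ _ = tmap _ _ ≫ tmap _ _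
  rw [← tmap_comp, ← tmap_comp]
  congr 1
  · exact ρ.inv.naturality a
  · exact ρ.inv.naturality b

variable (a : (U : Scheme.{u}).Modules) (b : X.Modules)

/-- The map adjoint to the projection map. -/
noncomputable def qAdj : CohB1.tensorMod a (b.restrict U.ι) ⟶
    (Scheme.Modules.restrictFunctor U.ι).obj (CohB1.tensorMod ((CxOX.extZero U.ι).obj a) b) :=
  tmap ((CxOX.extZeroAdj U.ι).unit.app a) (𝟙 _) ≫
    (TensorMod.Pullback.restrictTensorIso U.ι ((CxOX.extZero U.ι).obj a) b).inv

/-- The projection map. -/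
noncomputable def q : (CxOX.extZero U.ι).obj (CohB1.tensorMod a (b.restrict U.ι)) ⟶
    CohB1.tensorMod ((CxOX.extZero U.ι).obj a) b :=
  ((CxOX.extZeroAdj U.ι).homEquiv _ _).symm (qAdj U a b)

instance : IsIso (qAdj U a b) := by
  haveI := DerivedOX.OpenSupport.isIso_unit_extZeroAdj U a
  haveI : IsIso (tmap ((CxOX.extZeroAdj U.ι).unit.app a) (𝟙 (b.restrict U.ι))) :=
    (tensorIso (asIso ((CxOX.extZeroAdj U.ι).unit.app a)) (Iso.refl _)).isIso_hom
  unfold qAdj
  infer_instance

theorem isIso_restrict_q : IsIso ((Scheme.Modules.restrictFunctor U.ι).map (q U a b)) := by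
  haveI := DerivedOX.OpenSupport.isIso_unit_extZeroAdj U (CohB1.tensorMod a (b.restrict U.ι))
  have h : (CxOX.extZeroAdj U.ι).unit.app _ ≫
      (Scheme.Modules.restrictFunctor U.ι).map (q U a b) = qAdj U a b :=
    (Adjunction.homEquiv_unit _ _ _ _).symm.trans (Equiv.apply_symm_apply _ _)
  exact IsIso.of_isIso_fac_left h

theorem subsingleton_stalk_tensor {x : X} (hx : x ∉ U) :
    Subsingleton ((CohB1.tensorMod ((CxOX.extZero U.ι).obj a) b).presheaf.stalk x) := by
  haveI := (Modules.Support.not_mem_support_iff (M := (CxOX.extZero U.ι).obj a)).1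
    (not_mem_support_extZero U a hx)
  exact (DerivedOX.TensorSheaf.tensorStalk x ((CxOX.extZero U.ι).obj a) b).toEquiv.subsingleton_congr.2
    inferInstance

instance isIso_q : IsIso (q U a b) := by
  refine (Modules.Stalk.isIso_iff_stalk _).2 fun x => ?_
  by_cases hx : x ∈ U
  · haveI := isIso_restrict_q U a b
    let ρ := Modules.Local.restrictStalkIso U.ι ⟨x, hx⟩
    exact (NatIso.isIso_map_iff ρ (q U a b)).1
      (inferInstanceAs (IsIso ((Modules.Stalk.stalkFunctor (U : Scheme.{u}) ⟨x, hx⟩).map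
        ((Scheme.Modules.restrictFunctor U.ι).map (q U a b)))))
  · haveI := (Modules.Support.not_mem_support_iff (M := (CxOX.extZero U.ι).obj _)).1
      (not_mem_support_extZero U (CohB1.tensorMod a (b.restrict U.ι)) hx)
    haveI := subsingleton_stalk_tensor U a b hx
    rw [ConcreteCategory.isIso_iff_bijective]
    exact ⟨fun _ _ _ => @Subsingleton.elim _ (by assumption) _ _,
      fun y => ⟨0, @Subsingleton.elim _ (by assumption) _ _⟩⟩

variable {a b}

theorem q_natural {a' : (U : Scheme.{u}).Modules} {b' : X.Modules} (f : a ⟶ a') (g : b ⟶ b') :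
    (CxOX.extZero U.ι).map (tmap f ((Scheme.Modules.restrictFunctor U.ι).map g)) ≫ q U a' b' =
      q U a b ≫ tmap ((CxOX.extZero U.ι).map f) g := by
  rw [q, q, ← Adjunction.homEquiv_naturality_left_symm, ← Adjunction.homEquiv_naturality_right_symm]
  congr 1
  rw [qAdj, qAdj, Category.assoc]
  have h := restrictTensorIso_natural U.ι ((CxOX.extZero U.ι).map f) g
  rw [← Iso.inv_comp_eq, ← Category.assoc, ← Iso.eq_comp_inv] at h
  erw [h]
  rw [← Category.assoc, ← Category.assoc]
  congr 1
  change tmap _ _ ≫ tmap _ _ = tmap _ _ ≫ tmap _ _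
  rw [← tmap_comp, ← tmap_comp]
  congr 1
  · exact (CxOX.extZeroAdj U.ι).unit.naturality f

end Groth.Agent.Lib.H15.RHomRes.Proj
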