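import Groth.Agent.Lib.H15.RHomRes.Proj
import Groth.Agent.Lib.DerivedOX.DualHomExists
import Groth.Agent.Lib.DerivedOX.KFlatPullback
import Groth.Agent.Lib.DerCat.DerAdj
import Groth.Prelude.Def_DCoh2
import Groth.Prelude.Def_DCoh3

/-!
# Derived internal Hom commutes with restriction to opens
-/

set_option autoImplicit false
set_option linter.style.haveILetI false

universe u

open CategoryTheory Limits AlgebraicGeometry HomologicalComplex

attribute [local instance] HasDerivedCategory.standard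

namespace Groth.Agent.Lib.H15.RHomRes.Main

open Groth.Agent.Lib Groth.Agent.Lib.DerivedOX DualHom BifunctorMap

variable {X : Scheme.{u}} (U : X.Opens)

instance preservesFiniteLimits_extZero : PreservesFiniteLimits (CxOX.extZero U.ι) :=
  preservesFiniteLimits_of_natIso
    ((RestrictKInj.extZeroAdj U).leftAdjointUniq (CxOX.extZeroAdj U.ι))

/-- `(a, b) ↦ a ⊗ b|_U`. -/
noncomputable abbrev B : (U : Scheme.{u}).Modules ⥤ X.Modules ⥤ (U : Scheme.{u}).Modules :=
  DCoh.tensorBi ⋙ (Functor.whiskeringLeft _ _ _).obj (Scheme.Modules.restrictFunctor U.ι)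

/-- The projection map as an isomorphism. -/
noncomputable def qIso (a : (U : Scheme.{u}).Modules) (b : X.Modules) :
    (CxOX.extZero U.ι).obj (CohB1.tensorMod a (b.restrict U.ι)) ≅
      CohB1.tensorMod ((CxOX.extZero U.ι).obj a) b :=
  @asIso _ _ _ _ (Proj.q U a b) (Proj.isIso_q U a b)

instance additive_B_obj (a : (U : Scheme.{u}).Modules) : ((B U).obj a).Additive :=
  inferInstanceAs (Scheme.Modules.restrictFunctor U.ι ⋙ DCoh.tensorBi.obj a).Additive

instance additive_B : (B U).Additive where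
  map_add {a a' f g} := by
    refine NatTrans.ext (funext fun b => ?_)
    exact congrArg (fun t => NatTrans.app t ((Scheme.Modules.restrictFunctor U.ι).obj b))
      ((DCoh.tensorBi (X := (U : Scheme.{u}))).map_add (f := f) (g := g))

/-- The projection formula as a comparison of bifunctors. -/
noncomputable def θ : Comparison (B U) (DCoh.tensorBi (X := X)) (CxOX.extZero U.ι) (𝟭 X.Modules)
    (CxOX.extZero U.ι) where
  iso a b := (qIso U a b).symm
  natural₁ {a a'} f b := by
    refine (Iso.comp_inv_eq _).2 ((Category.assoc _ _ _).trans ((Iso.inv_comp_eq _).2 ?_)).symm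
    have h := Proj.q_natural U f (𝟙 b)
    rw [CategoryTheory.Functor.map_id, ← PullTensor.tensorBi_map_app,
      ← PullTensor.tensorBi_map_app] at h
    exact h
  natural₂ a {b b'} g := by
    refine (Iso.comp_inv_eq _).2 ((Category.assoc _ _ _).trans ((Iso.inv_comp_eq _).2 ?_)).symm
    have h := Proj.q_natural U (𝟙 a) g
    rw [CategoryTheory.Functor.map_id, ← PullTensor.tensorBi_obj_map,
      ← PullTensor.tensorBi_obj_map] at h
    exact h

/-- Restriction of complexes. -/
noncomputable abbrev rC : CochainComplex X.Modules ℤ ⥤ CochainComplex (U : Scheme.{u}).Modules ℤ :=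
  (Scheme.Modules.restrictFunctor U.ι).mapHomologicalComplex (ComplexShape.up ℤ)

/-- Extension by zero of complexes. -/
noncomputable abbrev eC : CochainComplex (U : Scheme.{u}).Modules ℤ ⥤ CochainComplex X.Modules ℤ :=
  (CxOX.extZero U.ι).mapHomologicalComplex (ComplexShape.up ℤ)

/-- The projection formula on complexes. -/
noncomputable def projCxIso (P : CochainComplex X.Modules ℤ) :
    eC U ⋙ Tc P ≅ Tc ((rC U).obj P) ⋙ eC U :=
  haveI : PreservesColimitsOfSize.{u, u} (CxOX.extZero U.ι) :=
    (CxOX.extZeroAdj U.ι).leftAdjoint_preservesColimits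
  haveI : PreservesColimitsOfSize.{0, 0} (CxOX.extZero U.ι) :=
    preservesColimitsOfSize_shrink.{0, u, 0, u} _
  NatIso.ofComponents (fun T => totalIso (θ U) T P) (fun {T T'} f => by
    have h := totalIso_natural (θ U) f (𝟙 P)
    rw [CategoryTheory.Functor.map_id] at h
    exact h)

/-- The internal Hom complex commutes with restriction. -/
noncomputable def hcIso (P : CochainComplex X.Modules ℤ) :
    Hc P ⋙ rC U ≅ rC U ⋙ Hc ((rC U).obj P) :=
  let A := DerCat.DerAdj.adjC (CxOX.extZeroAdj U.ι) (ComplexShape.up ℤ)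
  (A.comp (adj P)).rightAdjointUniq (((adj ((rC U).obj P)).comp A).ofNatIsoLeft (projCxIso U P).symm)

theorem isKFlat_of_iso {Y : Scheme.{u}} {P P' : CochainComplex Y.Modules ℤ} (e : P ≅ P')
    (hP : DCoh.IsKFlat P) : DCoh.IsKFlat P' := fun L hL i =>
  (hP L hL i).of_iso ((homologyFunctor Y.Modules (ComplexShape.up ℤ) i).mapIso
    ((DCoh.tensorCx.obj L).mapIso e.symm))

theorem nonempty_iso [PreservesFiniteLimits (Scheme.Modules.restrictFunctor U.ι)]
    (K : CochainComplex X.Modules ℤ) [DCoh.HasLTensorCx K] [DCoh.HasRSheafHom K]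
    [DCoh.HasLTensorCx ((rC U).obj K)] [DCoh.HasRSheafHom ((rC U).obj K)] (M : DCoh.D X) :
    Nonempty ((DCoh.restrictD U.ι).obj ((DCoh.RSheafHom K).obj M) ≅
      (DCoh.RSheafHom ((rC U).obj K)).obj ((DCoh.restrictD U.ι).obj M)) := by
  let P := (KFlat.res X).obj K
  have hP : DCoh.IsKFlat P := KFlat.isKFlat_res K
  let r : P ⟶ K := (KFlat.aug X).app K
  haveI : QuasiIso r := KFlat.quasiIso_aug K
  let M₀ := DerivedCategory.Q.objPreimage M
  obtain ⟨J, i, hJ, hi, -, hinj⟩ := DerCat.KInjExists.exists_kInjective_resolution M₀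
  haveI := hJ
  haveI := hi
  let eM : DerivedCategory.Q.obj J ≅ M :=
    (asIso (DerivedCategory.Q.map i)).symm ≪≫ DerivedCategory.Q.objObjPreimageIso M
  haveI : ((rC U).obj J).IsKInjective :=
    RestrictKInj.isKInjective_of_adj (CxOX.extZeroAdj U.ι) hJ
  have hinj' : InjTerms ((rC U).obj J) := fun n =>
    haveI := hinj n
    Injective.injective_of_adjoint (CxOX.extZeroAdj U.ι) (J.X n)
  have hP' : DCoh.IsKFlat ((rC U).obj P) := isKFlat_of_iso
    ((NatIso.mapHomologicalComplex (Scheme.Modules.restrictFunctorIsoPullback U.ι)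
      (ComplexShape.up ℤ)).app P).symm (KFlatPullback.isKFlat_pullback U.ι hP)
  obtain ⟨c⟩ := DualCompare.nonempty_RSheafHom_iso hP r (J := J) hinj
  obtain ⟨c'⟩ := DualCompare.nonempty_RSheafHom_iso hP' ((rC U).map r) (J := (rC U).obj J) hinj'
  let F := (Scheme.Modules.restrictFunctor U.ι).mapDerivedCategoryFactors
  exact ⟨(DCoh.restrictD U.ι).mapIso ((DCoh.RSheafHom K).mapIso eM.symm ≪≫ c.symm) ≪≫
    F.app ((Hc P).obj J) ≪≫ DerivedCategory.Q.mapIso ((hcIso U P).app J) ≪≫ c' ≪≫
    (DCoh.RSheafHom ((rC U).obj K)).mapIso ((F.app J).symm ≪≫ (DCoh.restrictD U.ι).mapIso eM)⟩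

end Groth.Agent.Lib.H15.RHomRes.Main
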